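import Groth.Agent.ResProp.EF.K792.Edge
import Mathlib.Algebra.Category.Grp.Abelian
import Mathlib.Algebra.Category.Grp.Colimits
import Mathlib.Algebra.Category.Grp.FilteredColimits
import Mathlib.Algebra.Category.Grp.ForgetCorepresentable

/-!
# (c3) surj : invariant classes come from some `Ψ_i` (abstract form)

`Θ` = `RG` (total complex of the cobar complex); `ed Z : H^0(Θ Z) → (O ⟶ H^0 Z)` natural, surjective on complexes
concentrated in degree `0`.
* `surj_edge`: if `H^j(Z)` is `Θ`-acyclic for `j < 0`, then `ed Z` is surjective;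
* `surj_colim`: with `Z = colim F i` (filtered) and `κ : Z' ⟶ Z` with `H^0(κ)` mono, every `z : O ⟶ H^0 Z'` is the class of
  some `y : H^0(Θ (F i))`.
-/

set_option autoImplicit false

universe t w' w v v' u

open CategoryTheory CategoryTheory.Limits HomologicalComplex

namespace Groth.Agent.ResProp.EF.K517

open Groth.Agent.ResProp.EF.K792

variable {C : Type v} [Category.{w} C] [Abelian C]
  {Θ : CochainComplex C ℤ ⥤ CochainComplex AddCommGrpCat.{t} ℤ} [Θ.PreservesZeroMorphisms]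

/-- a natural map `H^0(Θ Z) → (O ⟶ H^0 Z)`, surjective on complexes concentrated in degree `0` -/
structure EdgeO (Θ : CochainComplex C ℤ ⥤ CochainComplex AddCommGrpCat.{t} ℤ) (O : C) where
  ed : ∀ Z : CochainComplex C ℤ, (Θ.obj Z).homology 0 → (O ⟶ Z.homology 0)
  nat : ∀ {Z Z' : CochainComplex C ℤ} (f : Z ⟶ Z') (x : (Θ.obj Z).homology 0),
    ed Z' ((homologyMap (Θ.map f) 0).hom x) = ed Z x ≫ homologyMap f 0
  single : ∀ (M : C) (z : O ⟶ ((CochainComplex.singleFunctor C 0).obj M).homology 0), ∃ x, ed _ x = z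

theorem surj_edge (hΘ : IsTheta Θ) {O : C} (e : EdgeO Θ O) {Z : CochainComplex C ℤ} (a : ℤ) (hZ : Z.IsStrictlyGE a)
    (hac : ∀ j < 0, Acyc Θ (Z.homology j)) (z : O ⟶ Z.homology 0) : ∃ x, e.ed Z x = z := by
  have hK' : (Z.truncLE 0).IsStrictlyGE a := strictlyGE_of_mono (Z.ιTruncLE 0) a hZ
  have h1 : IsIso (homologyMap (Θ.map (Z.ιTruncLE 0)) 0) := isIso_ι hΘ a hZ 0 0 le_rfl
  have h2 : IsIso (homologyMap (Θ.map (toSingle (Z.truncLE 0) 0)) 0) := by
    refine isIso_toSingle_Θ hΘ a 0 hK' inferInstance (fun j hj => ?_)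
    have := (quasiIsoAt_iff_isIso_homologyMap (Z.ιTruncLE 0) j).1 (Z.quasiIsoAt_ιTruncLE 0 j hj.le)
    exact Acyc.of_iso' (asIso (homologyMap (Z.ιTruncLE 0) j)).symm (hac j hj)
  have h3 : IsIso (homologyMap (Z.ιTruncLE 0) 0) :=
    (quasiIsoAt_iff_isIso_homologyMap (Z.ιTruncLE 0) 0).1 (Z.quasiIsoAt_ιTruncLE 0 0 le_rfl)
  have h4 : IsIso (homologyMap (toSingle (Z.truncLE 0) 0) 0) := isIso_toSingle 0 inferInstance
  obtain ⟨x, hx⟩ := e.single ((Z.truncLE 0).opcycles 0)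
    (z ≫ inv (homologyMap (Z.ιTruncLE 0) 0) ≫ homologyMap (toSingle (Z.truncLE 0) 0) 0)
  let x1 : (Θ.obj (Z.truncLE 0)).homology 0 := (inv (homologyMap (Θ.map (toSingle (Z.truncLE 0) 0)) 0)).hom x
  have hx1 : (homologyMap (Θ.map (toSingle (Z.truncLE 0) 0)) 0).hom x1 = x := by
    change ((inv (homologyMap (Θ.map (toSingle (Z.truncLE 0) 0)) 0)) ≫
      homologyMap (Θ.map (toSingle (Z.truncLE 0) 0)) 0).hom x = x
    rw [IsIso.inv_hom_id]
    rfl
  have h5 := e.nat (toSingle (Z.truncLE 0) 0) x1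
  rw [hx1] at h5
  have h6 : e.ed (Z.truncLE 0) x1 = z ≫ inv (homologyMap (Z.ιTruncLE 0) 0) := by
    rw [← cancel_mono (homologyMap (toSingle (Z.truncLE 0) 0) 0), ← h5, Category.assoc]
    exact hx
  refine ⟨(homologyMap (Θ.map (Z.ιTruncLE 0)) 0).hom x1, ?_⟩
  rw [e.nat, h6, Category.assoc, IsIso.inv_hom_id, Category.comp_id]

theorem surj_colim (hΘ : IsTheta Θ) {O : C} (e : EdgeO Θ O) {I : Type w'} [Category.{v'} I] [IsFiltered I]
    (F : I ⥤ CochainComplex C ℤ) (c : Cocone F) (hc : IsColimit c)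
    [PreservesColimit F (Θ ⋙ homologyFunctor AddCommGrpCat.{t} (ComplexShape.up ℤ) 0 ⋙ forget AddCommGrpCat.{t})]
    (a : ℤ) (hZ : c.pt.IsStrictlyGE a) (hac : ∀ j < 0, Acyc Θ (c.pt.homology j))
    {Z' : CochainComplex C ℤ} (κ : Z' ⟶ c.pt) (z : O ⟶ Z'.homology 0) :
    ∃ (i : I) (y : (Θ.obj (F.obj i)).homology 0),
      e.ed (F.obj i) y ≫ homologyMap (c.ι.app i) 0 = z ≫ homologyMap κ 0 := by
  obtain ⟨x, hx⟩ := surj_edge hΘ e a hZ hac (z ≫ homologyMap κ 0)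
  have h1 := isColimitOfPreserves (Θ ⋙ homologyFunctor AddCommGrpCat.{t} (ComplexShape.up ℤ) 0 ⋙
    forget AddCommGrpCat.{t}) hc
  obtain ⟨i, y, hy⟩ := Types.jointly_surjective _ h1 x
  refine ⟨i, y, ?_⟩
  rw [← hx, ← e.nat]
  exact congrArg _ hy

/-- the form of the field `surj` : `ev i y = ed y ≫ H^0(F i ⟶ Z) ≫ H^0(κ)⁻¹` -/
theorem surj_colim' (hΘ : IsTheta Θ) {O : C} (e : EdgeO Θ O) {I : Type w'} [Category.{v'} I] [IsFiltered I]
    (F : I ⥤ CochainComplex C ℤ) (c : Cocone F) (hc : IsColimit c)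
    [PreservesColimit F (Θ ⋙ homologyFunctor AddCommGrpCat.{t} (ComplexShape.up ℤ) 0 ⋙ forget AddCommGrpCat.{t})]
    (a : ℤ) (hZ : c.pt.IsStrictlyGE a) (hac : ∀ j < 0, Acyc Θ (c.pt.homology j))
    {Z' : CochainComplex C ℤ} (κ : Z' ⟶ c.pt) [IsIso (homologyMap κ 0)] (z : O ⟶ Z'.homology 0) :
    ∃ (i : I) (y : (Θ.obj (F.obj i)).homology 0),
      e.ed (F.obj i) y ≫ homologyMap (c.ι.app i) 0 ≫ inv (homologyMap κ 0) = z := by
  obtain ⟨i, y, h⟩ := surj_colim hΘ e F c hc a hZ hac κ z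
  exact ⟨i, y, by rw [← Category.assoc, h, Category.assoc, IsIso.hom_inv_id, Category.comp_id]⟩

end Groth.Agent.ResProp.EF.K517
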