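import Groth.Agent.ResProp.EF.K517.Surj

/-!
# (c3) surj, chart form

`G : C ⥤ AddCommGrpCat` (= `us ⋙ forget₂`), `Θ` (= `RG`) with `τ : Θ ⟶ G` on complexes (projection to cobar degree `0`).
`inv τ M` : the elements of `G M` which come from `H^0(Θ M)` (= the invariants of `M`).
* `surj_lift` : `H^j(Z)` `Θ`-acyclic for `j < 0` ⇒ every invariant class of `G (H^0 Z)` is an edge value;
* `surj_us` : `c.pt = colim F i` (filtered), `κ : c.pt ⟶ Z'` with `H^0(κ)` iso ⇒ every invariant class of `G (H^0 Z')` is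
  `G (H^0 (F i ⟶ c.pt ⟶ Z'))` of an edge value of `F i`.
-/

set_option autoImplicit false

universe t w' w v v' u

open CategoryTheory CategoryTheory.Limits HomologicalComplex

namespace Groth.Agent.ResProp.EF.K517

open Groth.Agent.ResProp.EF.K792

variable {C : Type v} [Category.{w} C] [Abelian C] {G : C ⥤ AddCommGrpCat.{t}} [G.Additive] [G.PreservesHomology]
  {Θ : CochainComplex C ℤ ⥤ CochainComplex AddCommGrpCat.{t} ℤ} [Θ.PreservesZeroMorphisms]
  (τ : Θ ⟶ G.mapHomologicalComplex (ComplexShape.up ℤ))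

/-- the map `H^0(Θ M) ⟶ G M` -/
noncomputable def invMap (M : C) : (Θ.obj ((single C (ComplexShape.up ℤ) 0).obj M)).homology 0 ⟶ G.obj M :=
  edge τ _ 0 ≫ G.map (singleObjHomologySelfIso (ComplexShape.up ℤ) 0 M).hom

omit [Θ.PreservesZeroMorphisms] in
theorem invMap_nat {M N : C} (f : M ⟶ N) :
    homologyMap (Θ.map ((single C (ComplexShape.up ℤ) 0).map f)) 0 ≫ invMap τ N = invMap τ M ≫ G.map f := by
  rw [invMap, invMap, ← Category.assoc, edge_naturality, Category.assoc, Category.assoc, ← G.map_comp, ← G.map_comp,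
    singleObjHomologySelfIso_hom_naturality]

/-- the invariants -/
noncomputable def inv (M : C) : AddSubgroup (G.obj M) := (invMap τ M).hom.range

omit [Θ.PreservesZeroMorphisms] in
theorem inv_map {M N : C} (f : M ⟶ N) {z : G.obj M} (hz : z ∈ inv τ M) : (G.map f).hom z ∈ inv τ N := by
  obtain ⟨x, rfl⟩ := hz
  refine ⟨(homologyMap (Θ.map ((single C (ComplexShape.up ℤ) 0).map f)) 0).hom x, ?_⟩
  exact congrArg (fun g => g.hom x) (invMap_nat τ f)

omit [Θ.PreservesZeroMorphisms] in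
theorem inv_iso {M N : C} (f : M ⟶ N) [IsIso f] (z : G.obj M) : z ∈ inv τ M ↔ (G.map f).hom z ∈ inv τ N := by
  refine ⟨inv_map τ f, fun h => ?_⟩
  have h1 := inv_map τ (CategoryTheory.inv f) h
  have h2 : (G.map (CategoryTheory.inv f)).hom ((G.map f).hom z) = z := by
    change (G.map f ≫ G.map (CategoryTheory.inv f)).hom z = z
    rw [← G.map_comp, IsIso.hom_inv_id, G.map_id]
    rfl
  rwa [h2] at h1

/-- every invariant class of `H^0 Z` is an edge value -/
theorem surj_lift (hΘ : IsTheta Θ) {Z : CochainComplex C ℤ} (a : ℤ) (hZ : Z.IsStrictlyGE a)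
    (hac : ∀ j < 0, Acyc Θ (Z.homology j)) {z : G.obj (Z.homology 0)} (hz : z ∈ inv τ (Z.homology 0)) :
    ∃ y : (Θ.obj Z).homology 0, (edge τ Z 0).hom y = z := by
  obtain ⟨w, rfl⟩ := hz
  exact edge_lift τ hΘ a 0 hZ hac w

/-- edge values are invariant -/
theorem edge_mem_inv (hΘ : IsTheta Θ) {Z : CochainComplex C ℤ} (a : ℤ) (hZ : Z.IsStrictlyGE a)
    (hac : ∀ j < 0, Acyc Θ (Z.homology j)) (y : (Θ.obj Z).homology 0) : (edge τ Z 0).hom y ∈ inv τ (Z.homology 0) := by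
  obtain ⟨s, hs⟩ := edge_iso τ hΘ a 0 hZ hac
  refine ⟨s.inv.hom y, ?_⟩
  have h1 : invMap τ (Z.homology 0) = s.hom ≫ edge τ Z 0 := hs.symm
  rw [h1]
  change (s.inv ≫ s.hom ≫ edge τ Z 0).hom y = _
  rw [Iso.inv_hom_id_assoc]

/-- **(c3)** -/
theorem surj_us (hΘ : IsTheta Θ) {I : Type w'} [Category.{v'} I] [IsFiltered I]
    (F : I ⥤ CochainComplex C ℤ) (c : Cocone F) (hc : IsColimit c)
    [PreservesColimit F (Θ ⋙ homologyFunctor AddCommGrpCat.{t} (ComplexShape.up ℤ) 0 ⋙ forget AddCommGrpCat.{t})]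
    (a : ℤ) (hZ : c.pt.IsStrictlyGE a)
    {Z' : CochainComplex C ℤ} (κ : c.pt ⟶ Z') (hκ : ∀ j ≤ 0, IsIso (homologyMap κ j))
    (hac : ∀ j < 0, Acyc Θ (Z'.homology j)) {z : G.obj (Z'.homology 0)} (hz : z ∈ inv τ (Z'.homology 0)) :
    ∃ (i : I) (y : (Θ.obj (F.obj i)).homology 0),
      (edge τ (F.obj i) 0 ≫ G.map (homologyMap (c.ι.app i ≫ κ) 0)).hom y = z := by
  have hac' : ∀ j < 0, Acyc Θ (c.pt.homology j) := fun j hj =>
    have := hκ j hj.le
    Acyc.of_iso' (asIso (homologyMap κ j)).symm (hac j hj)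
  have := hκ 0 le_rfl
  have hz' : (G.map (CategoryTheory.inv (homologyMap κ 0))).hom z ∈ inv τ (c.pt.homology 0) := inv_map τ _ hz
  obtain ⟨x, hx⟩ := surj_lift τ hΘ a hZ hac' hz'
  have h1 := isColimitOfPreserves (Θ ⋙ homologyFunctor AddCommGrpCat.{t} (ComplexShape.up ℤ) 0 ⋙
    forget AddCommGrpCat.{t}) hc
  obtain ⟨i, y, hy⟩ := Types.jointly_surjective _ h1 x
  refine ⟨i, y, ?_⟩
  have hy' : (homologyMap (Θ.map (c.ι.app i)) 0).hom y = x := hy
  rw [homologyMap_comp, G.map_comp, ← Category.assoc, ← edge_naturality]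
  change (G.map (homologyMap κ 0)).hom ((edge τ c.pt 0).hom ((homologyMap (Θ.map (c.ι.app i)) 0).hom y)) = z
  rw [hy', hx]
  change (G.map (CategoryTheory.inv (homologyMap κ 0)) ≫ G.map (homologyMap κ 0)).hom z = z
  rw [← G.map_comp, IsIso.inv_hom_id, G.map_id]
  rfl

end Groth.Agent.ResProp.EF.K517
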