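import Groth.Agent.ResProp.EF.K874.RG
import Groth.Agent.Dcoh.HomColim
import Mathlib.Algebra.Category.Grp.AB
import Mathlib.Algebra.Category.Grp.FilteredColimits

/-!
# `RG` commutes with colimits

* `preservesColimitsOfShape_cf`, `preservesColimitsOfShape_totalFunctor`, `preservesColimitsOfShape_RG`;
* `preservesColimitsOfShape_H` : `RG c ⋙ H^n ⋙ forget` commutes with filtered colimits (`D = AddCommGrpCat`).
-/

set_option autoImplicit false
set_option backward.isDefEq.respectTransparency false
set_option backward.isDefEq.respectTransparency.types false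

universe w' w t v u v' u'

open CategoryTheory CategoryTheory.Limits HomologicalComplex HomologicalComplex₂ ComplexShape

namespace Groth.Agent.ResProp.EF.K517

open K781.Desc K874

section

variable (J : Type w) [Category.{w'} J]

theorem preservesColimitsOfShape_mapHC {C : Type u'} [Category.{v'} C] [Preadditive C] {D : Type u} [Category.{v} D]
    [Preadditive D] [HasColimitsOfShape J C] (F : C ⥤ D) [F.PreservesZeroMorphisms]
    [PreservesColimitsOfShape J F] {ι : Type*} (c : ComplexShape ι) :
    PreservesColimitsOfShape J (F.mapHomologicalComplex c) :=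
  preservesColimitsOfShape_of_eval _ (fun i => by
    have : PreservesColimitsOfShape J (HomologicalComplex.eval C c i ⋙ F) := inferInstance
    exact this)

variable (D : Type u) [Category.{v} D] [Abelian D]

theorem preservesColimitsOfShape_cf [HasColimitsOfShape J D] : PreservesColimitsOfShape J (cf D) := by
  refine preservesColimitsOfShape_of_eval _ (fun j => ?_)
  by_cases hj : 0 ≤ j
  · obtain ⟨n, hn⟩ := Int.eq_ofNat_of_zero_le hj
    exact preservesColimitsOfShape_of_natIso (cfEval (D := D) n j hn.symm).symm
  · refine Functor.preservesColimitsOfShape_of_isZero _ ?_ _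
    exact (Functor.isZero _ (fun P => isZero_neg P j (by lia)))

theorem preservesColimitsOfShape_totalFunctor [HasColimitsOfShape J D] [HasCountableCoproducts D] :
    PreservesColimitsOfShape J (totalFunctor D (up ℤ) (up ℤ) (up ℤ)) := by
  apply HomologicalComplex.preservesColimitsOfShape_of_eval
  intro n
  constructor
  intro K
  constructor
  intro c hc
  have hc' : ∀ p q : ℤ, IsColimit ((HomologicalComplex.eval (CochainComplex D ℤ) (up ℤ) p ⋙
      HomologicalComplex.eval D (up ℤ) q).mapCocone c) := fun p q => isColimitOfPreserves _ hc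
  let cc (s : Cocone (K ⋙ totalFunctor D (up ℤ) (up ℤ) (up ℤ) ⋙ eval D (ComplexShape.up ℤ) n)) (p q : ℤ)
      (h : p + q = n) : Cocone (K ⋙ HomologicalComplex.eval (CochainComplex D ℤ) (up ℤ) p ⋙
      HomologicalComplex.eval D (up ℤ) q) := Cocone.mk s.pt
        { app := fun j => (K.obj j).ιTotal (up ℤ) p q n h ≫ s.ι.app j
          naturality := by
            intro j j' f
            have := s.w f
            dsimp at this ⊢
            rw [← this]
            simp [totalFunctor, ιTotal_map_assoc] }
  refine ⟨{ desc := fun s => HomologicalComplex₂.totalDesc c.pt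
              (fun p q h => (hc' p q).desc (cc s p q h))
            fac := ?_
            uniq := ?_ }⟩
  · intro s j
    refine total.hom_ext _ (fun p q h => ?_)
    change (K.obj j).ιTotal (up ℤ) p q n h ≫ (total.map (c.ι.app j) (up ℤ)).f n ≫
      c.pt.totalDesc (fun p q h => (hc' p q).desc (cc s p q h)) = (K.obj j).ιTotal (up ℤ) p q n h ≫ s.ι.app j
    have e1 := ιTotal_map_assoc _ _ (c.ι.app j) (up ℤ) p q n h
      (c.pt.totalDesc (fun p q h => (hc' p q).desc (cc s p q h)))
    refine e1.trans ?_
    have e2 := c.pt.ι_totalDesc (fun p q h => (hc' p q).desc (cc s p q h)) p q h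
    refine (congrArg (fun t => ((c.ι.app j).f p).f q ≫ t) e2).trans ?_
    exact (hc' p q).fac (cc s p q h) j
  · intro s m hm
    refine total.hom_ext _ (fun p q h => ?_)
    refine (hc' p q).hom_ext (fun j => ?_)
    have e2 := c.pt.ι_totalDesc (fun p q h => (hc' p q).desc (cc s p q h)) p q h
    refine Eq.trans ?_ (congrArg (fun t => ((c.ι.app j).f p).f q ≫ t) e2).symm
    refine Eq.trans ?_ ((hc' p q).fac (cc s p q h) j).symm
    have e1 := ιTotal_map_assoc _ _ (c.ι.app j) (up ℤ) p q n h m
    refine e1.symm.trans ?_
    exact congrArg (fun t => (K.obj j).ιTotal (up ℤ) p q n h ≫ t) (hm j)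

end

section

variable (J : Type w) [Category.{w'} J] {C : Type u'} [Category.{v'} C] [Abelian C] {D : Type u} [Category.{v} D]
  [Abelian D] [HasCountableCoproducts D] (c : C ⥤ (SimplexCategory ⥤ D)) [c.Additive]

theorem preservesColimitsOfShape_RG [HasColimitsOfShape J C] [HasColimitsOfShape J D]
    [PreservesColimitsOfShape J c] : PreservesColimitsOfShape J (RG c) := by
  have h1 := preservesColimitsOfShape_cf J D
  have h2 := preservesColimitsOfShape_totalFunctor J D
  have h3 : PreservesColimitsOfShape J (bi c) := preservesColimitsOfShape_mapHC J (c ⋙ cf D) (up ℤ)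
  exact inferInstanceAs (PreservesColimitsOfShape J (bi c ⋙ totalFunctor D (up ℤ) (up ℤ) (up ℤ)))

end

section

variable (J : Type t) [SmallCategory J] [IsFiltered J] {C : Type u'} [Category.{v'} C] [Abelian C]
  (c : C ⥤ (SimplexCategory ⥤ AddCommGrpCat.{t})) [c.Additive]

/-- `H^n(RG -)` commutes with filtered colimits -/
theorem preservesColimitsOfShape_H [HasColimitsOfShape J C] [PreservesColimitsOfShape J c] (n : ℤ) :
    PreservesColimitsOfShape J (RG c ⋙ homologyFunctor AddCommGrpCat.{t} (up ℤ) n ⋙ forget AddCommGrpCat.{t}) := by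
  have h1 := preservesColimitsOfShape_RG J c
  have h2 : PreservesColimitsOfShape J (homologyFunctor AddCommGrpCat.{t} (up ℤ) n) := inferInstance
  have h3 : PreservesColimitsOfShape J (forget AddCommGrpCat.{t}) := inferInstance
  infer_instance

end

end Groth.Agent.ResProp.EF.K517
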