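import Groth.Agent.ResProp.EF.K517.Surj2
import Groth.Agent.ResProp.EF.K517.RGColim
import Groth.Agent.ResProp.EF.K792.RGPr
import Groth.Agent.ResProp.EF.K110.TensFlat
import Groth.Agent.ResProp.EF.K110.RGPrj
import Groth.Agent.ResProp.EF.K654.RepDatum
import Groth.Agent.ResProp.EF.K276.TensBC

/-!
# (c3) for the REP datum

* `quasiIso_tens_left` : `f ⊗ M` quasi-iso for all modules `M` ⇒ `N ⊗ f` quasi-iso for `N` bounded;
* `quasiIso_left` : `Y ⊗ e` is a quasi-isomorphism for `Y` bounded (field `univ` of the REP datum);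
* `c3` : every invariant class of `us H^0(Y ⊗ K)` is the image of a class of some `H^0(RG(Y ⊗ Ψ_i))`.
-/

set_option autoImplicit false
set_option backward.defeqAttrib.useBackward true
set_option backward.isDefEq.respectTransparency false
set_option backward.isDefEq.respectTransparency.types false

universe w v u v₁ u₁

open CategoryTheory CategoryTheory.Limits MonoidalCategory HomologicalComplex

namespace Groth.Agent.ResProp.EF.K517

open Groth.Agent.PerfB Groth.Agent.PerfB.RingKFlat Groth.Agent.ResProp.EF.K294 Groth.Agent.ResProp.EF.K792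
  Groth.Agent.ResProp.EF.K874

section Mod

variable {A : Type u} [CommRing A]

/-- `f ⊗ M` quasi-iso for all modules `M` ⇒ `N ⊗ f` quasi-iso for `N` bounded -/
theorem quasiIso_tens_left {K L : CM A} (f : K ⟶ L) (hf : ∀ M : ModuleCat.{u} A, QuasiIso (K476.Mum.tensMap f M))
    (N : CM A) (a b : ℤ) [N.IsStrictlyGE a] [N.IsStrictlyLE b] : QuasiIso (((TR A).map₂CochainComplex.obj N).map f) := by
  have h1 : QuasiIso (((TR A).map₂CochainComplex.map f).app N) := K476.MumBdd.quasiIso_app_of_forall (TR A) f hf N a b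
  have h2 := Groth.Agent.PerfC.TensorSymm.symmCx_naturality_right (TR A) (fun M N => β_ N M)
    (fun {M M'} f N => BraidedCategory.braiding_naturality_right N f)
    (fun M {N N'} f => BraidedCategory.braiding_naturality_left f M) N f
  have h3 : ((TR A).map₂CochainComplex.obj N).map f =
      (K276.tensSymm N K).hom ≫ ((TR A).map₂CochainComplex.map f).app N ≫ (K276.tensSymm N L).inv := by
    rw [← Category.assoc, Iso.eq_comp_inv]
    exact h2
  rw [h3]
  infer_instance

end Mod

section Chart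

variable {A : Type u} [CommRing A] {C : Type v} [Category.{w} C] [Abelian C] {X : Chart A C}
  (TC : C ⥤ C ⥤ C) [TC.Additive] [∀ M, (TC.obj M).Additive]
  [∀ K L : CochainComplex C ℤ, CochainComplex.HasMapBifunctor K L TC]

/-- quasi-isomorphisms are tested on the chart -/
theorem quasiIso_of_usC {K L : CochainComplex C ℤ} (f : K ⟶ L) (h : QuasiIso (X.usC.map f)) : QuasiIso f :=
  (quasiIso_map_iff_of_preservesHomology f X.us).1 h

/-- `Y ⊗ e` is a quasi-isomorphism for bounded `Y` -/
theorem quasiIso_left (bc : BifCompare.Data TC (TR A) X.us X.us X.us) {P K : CochainComplex C ℤ} (e : P ⟶ K)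
    (he : ∀ N : ModuleCat.{u} A, QuasiIso (K476.Mum.tensMap (X.usC.map e) N)) (Y : CochainComplex C ℤ) (a b : ℤ)
    [Y.IsStrictlyGE a] [Y.IsStrictlyLE b] : QuasiIso ((TC.map₂CochainComplex.obj Y).map e) := by
  refine quasiIso_of_usC (X := X) _ ?_
  have h1 := quasiIso_tens_left (X.usC.map e) he (X.usC.obj Y) a b
  have h2 := BifCompare.iso_naturality bc (𝟙 Y) e
  rw [CategoryTheory.Functor.map_id] at h2
  have h3 : X.usC.map ((TC.map₂CochainComplex.obj Y).map e) =
      (BifCompare.iso bc Y P).inv ≫ ((TR A).map₂CochainComplex.obj (X.usC.obj Y)).map (X.usC.map e) ≫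
        (BifCompare.iso bc Y K).hom := by
    rw [Iso.eq_inv_comp]
    exact h2.symm
  rw [h3]
  infer_instance

/-- lower bounds -/
theorem isStrictlyGE_tens (Y Z : CochainComplex C ℤ) (a b : ℤ) [Y.IsStrictlyGE a] [Z.IsStrictlyGE b] :
    ((TC.map₂CochainComplex.obj Y).obj Z).IsStrictlyGE (a + b) := by
  rw [CochainComplex.isStrictlyGE_iff]
  intro i hi
  refine K110.isZero_total_X TC Y Z i (fun p q h => ?_)
  by_cases hp : p < a
  · exact (TC.flip.obj _).map_isZero (Y.isZero_of_isStrictlyGE a p hp)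
  · exact (TC.obj _).map_isZero (Z.isZero_of_isStrictlyGE b q (by omega))

variable (c : C ⥤ (SimplexCategory ⥤ AddCommGrpCat.{u})) [c.Additive] [PreservesFiniteLimits c]
  [PreservesFiniteColimits c]

/-- the classes of `H^0(Y ⊗ K)` on the chart which come from `H^0(RG(Y ⊗ Ψ))` -/
noncomputable def evC {Ψ K : CochainComplex C ℤ} (ψ : Ψ ⟶ K) (Y : CochainComplex C ℤ) :
    ((RG c).obj ((TC.map₂CochainComplex.obj Y).obj Ψ)).homology 0 ⟶
      (K110.ev0 c).obj (((TC.map₂CochainComplex.obj Y).obj K).homology 0) :=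
  edge (K110.rgPrj c) _ 0 ≫ (K110.ev0 c).map (homologyMap ((TC.map₂CochainComplex.obj Y).map ψ) 0)

theorem evC_nat {Ψ K : CochainComplex C ℤ} (ψ : Ψ ⟶ K) {Y Y' : CochainComplex C ℤ} (f : Y ⟶ Y') :
    homologyMap ((RG c).map ((TC.map₂CochainComplex.map f).app Ψ)) 0 ≫ evC TC c ψ Y' =
      evC TC c ψ Y ≫ (K110.ev0 c).map (homologyMap ((TC.map₂CochainComplex.map f).app K) 0) := by
  rw [evC, evC, ← Category.assoc, edge_naturality, Category.assoc, Category.assoc, ← (K110.ev0 c).map_comp,
    ← (K110.ev0 c).map_comp, ← homologyMap_comp, ← homologyMap_comp, (TC.map₂CochainComplex.map f).naturality]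

/-- **(c3)** -/
theorem c3 (bc : BifCompare.Data TC (TR A) X.us X.us X.us) (D : K654.RepDatum.{u} X)
    [HasColimitsOfShape D.J C] [PreservesColimitsOfShape D.J c] [∀ M : C, PreservesColimitsOfShape D.J (TC.obj M)]
    (Y : CochainComplex C ℤ) (hY : F5.Bdd Y)
    (hac : ∀ j < 0, Acyc (RG c) (((TC.map₂CochainComplex.obj Y).obj D.K).homology j))
    {z : (K110.ev0 c).obj (((TC.map₂CochainComplex.obj Y).obj D.K).homology 0)}
    (hz : z ∈ inv (K110.rgPrj c) (((TC.map₂CochainComplex.obj Y).obj D.K).homology 0)) :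
    ∃ (i : D.J) (y : ((RG c).obj ((TC.map₂CochainComplex.obj Y).obj (D.Ψ.obj i))).homology 0),
      (evC TC c (D.c.ι.app i ≫ D.e) Y).hom y = z := by
  obtain ⟨a, b, ha, hb⟩ := hY
  have h1 : ∀ i, (D.Ψ.obj i).IsStrictlyGE D.a := D.ge
  have hP : D.c.pt.IsStrictlyGE D.a := by
    rw [CochainComplex.isStrictlyGE_iff]
    intro i hi
    have hc := isColimitOfPreserves (HomologicalComplex.eval C (ComplexShape.up ℤ) i) D.isColimit
    rw [IsZero.iff_id_eq_zero]
    exact hc.hom_ext (fun j => ((D.Ψ.obj j).isZero_of_isStrictlyGE D.a i hi).eq_of_src _ _)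
  have h2 := Groth.Agent.Dcoh.KFlatAbs.preservesColimitsOfShape_obj TC D.J Y
  have hc := isColimitOfPreserves (TC.map₂CochainComplex.obj Y) D.isColimit
  have h3 := preservesColimitsOfShape_H D.J c 0
  have h4 : ((TC.map₂CochainComplex.obj Y).obj D.c.pt).IsStrictlyGE (a + D.a) := isStrictlyGE_tens TC Y D.c.pt a D.a
  have h5 := quasiIso_left TC bc D.e D.univ Y a b
  obtain ⟨i, y, hy⟩ := surj_us (K110.rgPrj c) (isTheta_RG c) (D.Ψ ⋙ TC.map₂CochainComplex.obj Y)
    ((TC.map₂CochainComplex.obj Y).mapCocone D.c) hc (a + D.a) h4 ((TC.map₂CochainComplex.obj Y).map D.e)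
    (fun j _ => inferInstance) hac hz
  refine ⟨i, y, ?_⟩
  rw [← hy, evC, Functor.map_comp]
  rfl

end Chart

end Groth.Agent.ResProp.EF.K517
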