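import Groth.Agent.ResProp.EF.K476.CobInst
import Groth.Agent.ResProp.EF.K477.Gal
import Groth.Agent.ResProp.EF.K792.InvEq
import Groth.Agent.ResProp.EF.K110.EvC3

/-!
# Seam: `K477.cob` (elementwise cobar complex of a `PM`) and `RG (cob A)`

`M : Comod A`.
* `dd_cob` : the differential of the alternating coface complex of `cob A M` is `K477.cob (toPM M.obj)`;
* `acyc_cob` : `H^n (K477.cob M) = 0` for `n ≥ 1` ⇒ `Acyc (RG (cob A)) M`;
* `mem_inv_cob_iff` : `x ∈ inv (rgPrj (cob A)) M ↔ K477.cob M 0 x = 0`.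
-/

set_option autoImplicit false
set_option backward.isDefEq.respectTransparency false
set_option backward.isDefEq.respectTransparency.types false
set_option linter.dupNamespace false

universe t u

open CategoryTheory CategoryTheory.Limits HomologicalComplex ComplexShape Opposite

namespace Groth.Agent.ResProp.EF.K517

open EF56 K784.BC K784.PM K741.RP K781.Desc K874 K792 K476.CobInst K477

section General

/-- exactness of the alternating coface complex, elementwise -/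
theorem exactAt_cf (P : SimplexCategory ⥤ AddCommGrpCat.{t}) (n : ℕ)
    (h : ∀ x : P.obj (SimplexCategory.mk (n + 1)), (dd P (n + 1)).hom x = 0 →
      ∃ y : P.obj (SimplexCategory.mk n), (dd P n).hom y = x) (i : ℤ) (hi : ((n + 1 : ℕ) : ℤ) = i) :
    ((cf AddCommGrpCat.{t}).obj P).ExactAt i := by
  subst hi
  rw [HomologicalComplex.exactAt_iff' _ (n : ℤ) ((n + 1 : ℕ) : ℤ) ((n + 1 + 1 : ℕ) : ℤ) (by simp) (by simp),
    ShortComplex.ab_exact_iff]
  intro x hx
  let e0 := θ P n (n : ℤ) rfl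
  let e1 := θ P (n + 1) ((n + 1 : ℕ) : ℤ) rfl
  let e2 := θ P (n + 1 + 1) ((n + 1 + 1 : ℕ) : ℤ) rfl
  have k1 : ((cf _).obj P).d ((n + 1 : ℕ) : ℤ) ((n + 1 + 1 : ℕ) : ℤ) ≫ e2.hom = e1.hom ≫ dd P (n + 1) :=
    θ_d P (n + 1) _ _ rfl rfl
  have k0 : ((cf _).obj P).d (n : ℤ) ((n + 1 : ℕ) : ℤ) ≫ e1.hom = e0.hom ≫ dd P n := θ_d P n _ _ rfl rfl
  have hx1 : (dd P (n + 1)).hom (e1.hom.hom x) = 0 := by
    have := congrArg (fun f => f.hom x) k1
    refine this.symm.trans ?_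
    change e2.hom.hom ((((cf _).obj P).d ((n + 1 : ℕ) : ℤ) ((n + 1 + 1 : ℕ) : ℤ)).hom x) = 0
    have hx' : (((cf _).obj P).d ((n + 1 : ℕ) : ℤ) ((n + 1 + 1 : ℕ) : ℤ)).hom x = 0 := hx
    rw [hx', map_zero]
  obtain ⟨y, hy⟩ := h _ hx1
  refine ⟨e0.inv.hom y, ?_⟩
  have h2 := congrArg (fun f => f.hom (e0.inv.hom y)) k0
  have h3 : e0.hom.hom (e0.inv.hom y) = y := by
    change (e0.inv ≫ e0.hom).hom y = y
    rw [e0.inv_hom_id]
    rfl
  have h4 : e1.hom.hom ((((cf _).obj P).d (n : ℤ) ((n + 1 : ℕ) : ℤ)).hom (e0.inv.hom y)) = e1.hom.hom x := by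
    refine h2.trans ?_
    change (dd P n).hom (e0.hom.hom (e0.inv.hom y)) = _
    rw [h3, hy]
  have h5 : ∀ z, e1.inv.hom (e1.hom.hom z) = z := fun z => by
    change (e1.hom ≫ e1.inv).hom z = z
    rw [e1.hom_inv_id]
    rfl
  have h6 := congrArg (fun z => e1.inv.hom z) h4
  exact (h5 _).symm.trans (h6.trans (h5 x))

end General

section Cob

variable {A : NFᵒᵖ ⥤ CommRingCat.{u}} [Fact (GR A)]

omit [Fact (GR A)] in
/-- (S1) -/
theorem dd_cob (M : Comod A) (n : ℕ) (x : (toPM M.obj).obj ⟨n⟩) :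
    (dd ((K476.CobInst.cob A).obj M) n).hom x = K477.cob (toPM M.obj) n x := by
  have h1 : (dd ((K476.CobInst.cob A).obj M) n).hom =
      ∑ i : Fin (n + 2), (-1 : ℤ) ^ (i : ℕ) • (((K476.CobInst.cob A).obj M).map (SimplexCategory.δ i)).hom := by
    rw [dd]
    refine (map_sum AddCommGrpCat.homAddEquiv _ _).trans ?_
    exact Finset.sum_congr rfl fun i _ => map_zsmul AddCommGrpCat.homAddEquiv _ _
  rw [h1, K477.cob]
  rfl

/-- (S2) -/
theorem acyc_cob (M : Comod A) (h : ∀ (n : ℕ) (x : (toPM M.obj).obj ⟨n + 1⟩), K477.cob (toPM M.obj) (n + 1) x = 0 →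
    ∃ y, K477.cob (toPM M.obj) n y = x) : Acyc (RG (K476.CobInst.cob A)) M := by
  have h0 := K792.countableAB4_ab.{u}
  refine acyc_RG (K476.CobInst.cob A) M (fun i hi => ?_)
  obtain ⟨n, hn⟩ := Int.eq_ofNat_of_zero_le (show 0 ≤ i - 1 by lia)
  refine exactAt_cf _ n (fun x hx => ?_) i (by push_cast; lia)
  obtain ⟨y, hy⟩ := h n x ((dd_cob M (n + 1) x).symm.trans hx)
  exact ⟨y, (dd_cob M n y).trans hy⟩

/-- (S3) -/
theorem mem_inv_cob_iff (M : Comod A) (x : (toPM M.obj).obj ⟨0⟩) :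
    x ∈ K517.inv (K110.rgPrj (K476.CobInst.cob A)) M ↔ K477.cob (toPM M.obj) 0 x = 0 := by
  refine (K792.mem_inv_iff (K476.CobInst.cob A) M x).trans ?_
  rw [← sub_eq_zero]
  have h1 := K792.dd_zero_apply ((K476.CobInst.cob A).obj M) x
  have h2 := dd_cob M 0 x
  constructor
  · intro h
    exact (h2.symm.trans h1).trans h
  · intro h
    exact h1.symm.trans (h2.trans h)

end Cob

end Groth.Agent.ResProp.EF.K517
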